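import Groth.Agent.AbSch.K452.TorusRig
import Groth.Agent.AbVar.K508.Pts
import Groth.Agent.Red.K212.GmTor
import Groth.Agent.GrpSch.K270.Ker
import Groth.Prelude.Def_Red2
import Groth.Prelude.Def_LieS
import Mathlib.Algebra.CharP.Lemmas

/-!
# Maximal tori from proper quotients; the Lie algebra of `𝔾_m` in characteristic `p`
-/

set_option autoImplicit false
universe u
open CategoryTheory MonoidalCategory CartesianMonoidalCategory MonObj GrpObj AlgebraicGeometry Limits

namespace K270.Geo

/-- A torus which is the kernel of a homomorphism to a proper group is a maximal torus. -/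
theorem isMaximalTorus_of_ker {S : Scheme.{u}} {T C B : Over S} [GrpObj T] [GrpObj C] [GrpObj B] (i : T ⟶ C)
    [IsMonHom i] (π : C ⟶ B) [IsMonHom π] (hT : Red.IsTorus T) (hk : AlgGrp.IsKernel i π) [IsProper B.hom] :
    Red.IsMaximalTorus i := by
  refine ⟨inferInstance, K270.Ker.mono hk, hT, fun s T' _ j _ _ f hT' hf => ?_⟩
  have hk' := K508.Pts.isKernel_bc (Red.geomPt s) hk
  have hB : IsProper (Red.bc (Red.geomPt s) B).hom := by
    change IsProper (pullback.snd B.hom _)
    infer_instance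
  have h1 : j ≫ (Over.pullback (Red.geomPt s)).map π = 1 := K452.TorusRig.hom_eq_one hT' _
  have hm : Mono ((Over.pullback (Red.geomPt s)).map i) := K270.Ker.mono hk'
  let g := K270.Ker.lift hk' j h1
  have hg : g ≫ (Over.pullback (Red.geomPt s)).map i = j := K270.Ker.lift_comp hk' j h1
  refine ⟨g, ?_, ?_⟩
  · rw [← cancel_mono ((Over.pullback (Red.geomPt s)).map i), Category.assoc, hg, hf, Category.id_comp]
  · rw [← cancel_mono j, Category.assoc, hf, hg, Category.id_comp]

section Gm

variable {k : Type u} [Field k]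

open Groth.Agent.Sga3.H811.Pts

/-- The functions on the dual number scheme over `k`. -/
noncomputable def fnE : Γ((LieS.dpt k (Spec.map (CommRingCat.ofHom (algebraMap k k)))).left, ⊤) ≃+* DualNumber k :=
  (Scheme.ΓSpecIso (CommRingCat.of (DualNumber k))).commRingCatIsoToRingEquiv

noncomputable def fnP : Γ((LieS.pt k (Spec.map (CommRingCat.ofHom (algebraMap k k)))).left, ⊤) ≃+* k :=
  (Scheme.ΓSpecIso (CommRingCat.of k)).commRingCatIsoToRingEquiv

theorem fnP_zeroSec (x : Γ((LieS.dpt k (Spec.map (CommRingCat.ofHom (algebraMap k k)))).left, ⊤)) :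
    fnP ((LieS.zeroSec k (Spec.map (CommRingCat.ofHom (algebraMap k k)))).left.appTop x) = (fnE x).fst := by
  have h := Scheme.ΓSpecIso_naturality (CommRingCat.ofHom (TrivSqZeroExt.fstHom k k k).toRingHom)
  have h' := congrArg (fun t => t.hom x) h
  exact h'

/-- The points of `Lie 𝔾_m` are killed by `p`. -/
theorem lie_pow_eq_one (p : ℕ) [Fact p.Prime] [CharP k p] (w : LieS.LieR (Red.Gm (Spec (CommRingCat.of k))) k) :
    w.1 ^ p = 1 := by
  apply gmFn_injective
  rw [gmFn_pow, gmFn_one]
  have h0 := w.2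
  rw [LieS.mem_Lie_iff] at h0
  have h1 := congrArg Red.gmFn h0
  rw [gmFn_comp, gmFn_one] at h1
  have h2 : (fnE (Red.gmFn w.1)).fst = 1 := by
    rw [← fnP_zeroSec, h1, map_one]
  apply fnE.injective
  rw [map_pow, map_one]
  set x := fnE (Red.gmFn w.1) with hx
  have : CharP (DualNumber k) p := charP_of_injective_algebraMap (algebraMap k (DualNumber k)).injective p
  have h3 : (x - 1) ^ p = x ^ p - 1 ^ p := sub_pow_char x 1
  have h4 : (x - 1) ^ 2 = 0 := by
    have h5 : x - 1 = TrivSqZeroExt.inr x.snd := by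
      ext
      · simp [h2]
      · simp
    rw [h5, pow_two, TrivSqZeroExt.inr_mul_inr]
  have h6 : (x - 1) ^ p = 0 := pow_eq_zero_of_le (Fact.out : p.Prime).two_le h4
  rw [h6, one_pow] at h3
  exact (sub_eq_zero.mp h3.symm)

/-- `Lie 𝔾_m` has a non-trivial point. -/
theorem exists_lie_ne_one : ∃ w : LieS.LieR (Red.Gm (Spec (CommRingCat.of k))) k, w.1 ≠ 1 := by
  let e : (DualNumber k)ˣ := ⟨1 + DualNumber.eps, 1 - DualNumber.eps,
    by rw [← sq_sub_sq, one_pow, pow_two, DualNumber.eps_mul_eps, sub_zero],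
    by rw [mul_comm, ← sq_sub_sq, one_pow, pow_two, DualNumber.eps_mul_eps, sub_zero]⟩
  let v : Γ((LieS.dpt k (Spec.map (CommRingCat.ofHom (algebraMap k k)))).left, ⊤)ˣ := Units.map fnE.symm.toMonoidHom e
  let w := gmPt (S := Spec (CommRingCat.of k)) (LieS.dpt k (Spec.map (CommRingCat.ofHom (algebraMap k k)))) v
  have hw : Red.gmFn w = fnE.symm (1 + DualNumber.eps) := gmFn_gmPt _ _
  refine ⟨⟨w, ?_⟩, ?_⟩
  · rw [LieS.mem_Lie_iff]
    apply gmFn_injective
    rw [gmFn_comp, gmFn_one, hw]
    apply fnP.injective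
    rw [fnP_zeroSec, map_one, RingEquiv.apply_symm_apply]
    simp
  · intro h
    have h1 := congrArg Red.gmFn h
    rw [hw, gmFn_one] at h1
    have h2 := congrArg fnE h1
    rw [RingEquiv.apply_symm_apply, map_one] at h2
    have h3 := congrArg TrivSqZeroExt.snd h2
    simp at h3

end Gm

end K270.Geo
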