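import Groth.Agent.SGA3t2b.K270.Push
import Groth.Agent.SGA3t2b.K270.Geo
import Groth.Agent.AlgGrp.K400.LieTriv
import Groth.Agent.BddFin.K844.FinSub2

/-!
# The extension `C = (𝔾_m × A) / μ_p`

`k` algebraically closed of characteristic `p > 0`, `A` a smooth proper commutative `k`-group, `n : N ⟶ 𝔾_m` the kernel of
the `p`-th power and `m : N ⟶ A` a monomorphism of groups.  The push-out `C` of `n` and `m` is a smooth commutative algebraic
group, the homomorphism `i : 𝔾_m ⟶ C` is a maximal torus (the quotient `C / 𝔾_m = A / N` is proper), and the character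
`χ : C ⟶ 𝔾_m` with `i ≫ χ = p` is smooth (its kernel is `A`).  So `Lie (i ≫ χ) = 0` and `Lie χ ≠ 0`.
-/

set_option autoImplicit false
universe u
open CategoryTheory MonoidalCategory CartesianMonoidalCategory MonObj GrpObj AlgebraicGeometry Limits

namespace K270.E1

open K400.AlgCat K405.IsogGm Groth.Agent.Sga3.H830.CommAux Groth.Agent.Sga3.H830.AlgGrpAb
  Groth.Agent.Sga3.H830.AlgGrpAbMain

/-- The kernel of a homomorphism to a separated group is a closed immersion. -/
theorem isClosedImmersion_of_isKernel {S : Scheme.{u}} {N G Q : Over S} [GrpObj Q] [IsSeparated Q.hom] {i : N ⟶ G}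
    {q : G ⟶ Q} (h : AlgGrp.IsKernel i q) : IsClosedImmersion i.left := by
  have h1 : IsPullback i.left (toUnit N).left q.left (η[Q] : 𝟙_ (Over S) ⟶ Q).left :=
    IsPullback.map (Over.forget _) h
  have h2 : IsClosedImmersion (η[Q] : 𝟙_ (Over S) ⟶ Q).left := by
    have h3 : (η[Q] : 𝟙_ (Over S) ⟶ Q).left ≫ Q.hom = 𝟙 S := Over.w _
    have h4 : IsClosedImmersion ((η[Q] : 𝟙_ (Over S) ⟶ Q).left ≫ Q.hom) := by
      rw [h3]
      exact inferInstanceAs (IsClosedImmersion (𝟙 S))
    exact IsClosedImmersion.of_comp _ Q.hom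
  exact MorphismProperty.of_isPullback h1.flip h2

section field

variable {k : Type u} [Field k]

theorem quasiCompact_Gm : QuasiCompact (Red.Gm (Spec (CommRingCat.of k))).hom := by
  have := isAffine_Gm (k := k)
  infer_instance

theorem smooth_Gm (k : Type u) [Field k] : Smooth (Red.Gm (Spec (CommRingCat.of k))).hom := by
  have h1 : Smooth (Red.diag (ULift.{u} ℤ) ℤ).hom := Groth.Agent.Sga3B.TorusAlgClosed.diag_smooth ℤ
  exact inferInstanceAs (Smooth (pullback.snd (Red.diag (ULift.{u} ℤ) ℤ).hom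
    (specULiftZIsTerminal.from (Spec (CommRingCat.of k)))))

/-- Tangent vectors lift along smooth homomorphisms (structure morphism `Spec k ⟶ Spec k` in its official form). -/
theorem exists_lift_lie {G Q : Over (Spec (CommRingCat.of k))} [GrpObj G] [GrpObj Q] (q : G ⟶ Q) [IsMonHom q]
    [Smooth q.left] (v : LieS.LieR Q k) : ∃ w : LieS.LieR G k, w.1 ≫ q = v.1 := by
  have hf : Spec.map (CommRingCat.ofHom (algebraMap k k)) = 𝟙 _ := by
    rw [Algebra.algebraMap_self]
    exact Spec.map_id _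
  have key : ∀ (f : Spec (CommRingCat.of k) ⟶ Spec (CommRingCat.of k)), f = 𝟙 _ →
      ∀ v : LieS.Lie Q k f, ∃ w : LieS.Lie G k f, w.1 ≫ q = v.1 := by
    rintro _ rfl v
    obtain ⟨w, hw1, hw2⟩ := K400.LieTriv.exists_lift_dual q v.1 v.2
    exact ⟨⟨w, hw1⟩, hw2⟩
  exact key _ hf v

end field

/-- The extension `C` of `A / N` by `𝔾_m`, its maximal torus `i` and its character `χ` with `i ≫ χ = p`. -/
theorem exists_data (k : Type u) [Field k] [IsAlgClosed k] (p : ℕ) [Fact p.Prime] [CharP k p]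
    (A N : Over (Spec (CommRingCat.of k))) [GrpObj A] [GrpObj N] [IsProper A.hom] [Smooth A.hom] [IsCommMonObj A]
    (n : N ⟶ Red.Gm (Spec (CommRingCat.of k))) [IsMonHom n]
    (hn : AlgGrp.IsKernel n ((𝟙 (Red.Gm (Spec (CommRingCat.of k)))) ^ p)) (m : N ⟶ A) [IsMonHom m] [Mono m] :
    ∃ (C : Over (Spec (CommRingCat.of k))) (_ : GrpObj C) (_ : IsCommMonObj C) (_ : Smooth C.hom)
      (_ : QuasiCompact C.hom) (i : Red.Gm (Spec (CommRingCat.of k)) ⟶ C) (_ : IsMonHom i)
      (_ : Red.IsMaximalTorus i) (χ : C ⟶ Red.Gm (Spec (CommRingCat.of k))) (_ : IsMonHom χ),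
      (∀ w : LieS.LieR (Red.Gm (Spec (CommRingCat.of k))) k, w.1 ≫ i ≫ χ = 1) ∧
        ∃ y : LieS.LieR C k, y.1 ≫ χ ≠ 1 := by
  have hp : 0 < p := (Fact.out : p.Prime).pos
  have hGc := isCommMonObj_Gm (k := k)
  have hGa := isAffine_Gm (k := k)
  have hGft := locallyOfFiniteType_Gm (k := k)
  have hGqc := quasiCompact_Gm (k := k)
  have hGsep : IsSeparated (Red.Gm (Spec (CommRingCat.of k))).hom :=
    Groth.Agent.Books.AntiAffine.isSeparated_hom _
  have hPm : IsMonHom ((𝟙 (Red.Gm (Spec (CommRingCat.of k)))) ^ p) := isMonHom_pow p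
  -- the group `N`
  have hnm : Mono n := K400.Basic.kernel_mono hn
  have hnc : IsClosedImmersion n.left := isClosedImmersion_of_isKernel hn
  have hNc : IsCommMonObj N := isCommMonObj_of_mono n
  have hNft : LocallyOfFiniteType N.hom := by rw [← Over.w n]; infer_instance
  have hNqc : QuasiCompact N.hom := by rw [← Over.w n]; infer_instance
  let G' : Alg k := mk (Red.Gm (Spec (CommRingCat.of k)))
  let N' : Alg k := mk N
  let A' : Alg k := mk A
  let n' : N' ⟶ G' := homMk n inferInstance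
  let P' : G' ⟶ G' := homMk ((𝟙 (Red.Gm (Spec (CommRingCat.of k)))) ^ p) hPm
  let m' : N' ⟶ A' := homMk m inferInstance
  have hP1 : Flat (und P').left := by
    change Flat ((𝟙 (Red.Gm (Spec (CommRingCat.of k)))) ^ p).left
    rw [pow_eq_gmPow]
    exact (K844.FinSub.flat_surj_gmPow p hp).1
  have hP2 : Surjective (und P').left := by
    change Surjective ((𝟙 (Red.Gm (Spec (CommRingCat.of k)))) ^ p).left
    rw [pow_eq_gmPow]
    exact (K844.FinSub.flat_surj_gmPow p hp).2
  have hm0 : Mono (und m') := inferInstanceAs (Mono m)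
  have hm' : Mono m' := mono_of_und m'
  obtain ⟨w, hS⟩ := shortExact_of_isKernel n' P' hn
  obtain ⟨C, B, i, j, χ, π, w₁, w₂, hS₁, hS₂, h1, h2, h3⟩ := K270.Push.exists_push n' P' w hS m'
  have hi : und i ≫ und χ = (𝟙 (Red.Gm (Spec (CommRingCat.of k)))) ^ p := by
    rw [← und_comp, h1]
    rfl
  -- the character is smooth
  have hAs : Smooth A'.obj.X.hom := inferInstanceAs (Smooth A.hom)
  have hχe : Epi χ := hS₁.epi_g
  obtain ⟨hχ1, hχ2, hχ3⟩ := W_of_epi χ
  have hχs : Smooth (und χ).left := K400.LieTriv.smooth_of_kernel (und j) (und χ) (isKernel_of_shortExact hS₁)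
  have hGs : Smooth G'.obj.X.hom := smooth_Gm k
  have hCs : Smooth C.obj.X.hom := by
    rw [← Over.w (und χ)]
    infer_instance
  -- the quotient is proper
  obtain ⟨-, hB1, -⟩ := W_of_epi (j ≫ π)
  have hAp : IsProper A'.obj.X.hom := inferInstanceAs (IsProper A.hom)
  have hBp : IsProper B.obj.X.hom := K398.Pts.isProper_of_surjective (und (j ≫ π))
  refine ⟨C.obj.X, inferInstance, inferInstance, hCs, inferInstance, und i, inferInstance, ?_, und χ, inferInstance,
    fun v => ?_, ?_⟩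
  · exact K270.Geo.isMaximalTorus_of_ker (und i) (und π) (K212.GmTor.isTorus_Gm _) (isKernel_of_shortExact hS₂)
  · rw [hi, MonObj.comp_pow, Category.comp_id]
    exact K270.Geo.lie_pow_eq_one p v
  · obtain ⟨v, hv⟩ := K270.Geo.exists_lie_ne_one (k := k)
    obtain ⟨y, hy⟩ := exists_lift_lie (und χ) v
    exact ⟨y, by rw [hy]; exact hv⟩

end K270.E1
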