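import Groth.Agent.BddFin.K844.FinSub2

/-!
# `D_k(ℤ/p)` is the kernel of the `p`-th power on `𝔾_m`
-/

set_option autoImplicit false
universe u
open CategoryTheory MonoidalCategory CartesianMonoidalCategory MonObj GrpObj AlgebraicGeometry Limits

namespace K270.MuDiag

open Groth.Agent.Books.AffBridge Groth.Agent.Books.DynBasic Groth.Agent.Sga3B Groth.Agent.Sga3B.DSPts
  Groth.Agent.Sga3B.AffPts Groth.Agent.Sga3B.DSAff

variable {k : Type u} [Field k]

/-- The reduction of characters. -/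
def redHom (p : ℕ) : Multiplicative ℤ →* Multiplicative (ZMod p) := AddMonoidHom.toMultiplicative (Int.castAddHom (ZMod p))

theorem redHom_surjective (p : ℕ) : Function.Surjective (redHom p) := fun m => by
  obtain ⟨a, ha⟩ := ZMod.intCast_surjective (Multiplicative.toAdd m)
  exact ⟨Multiplicative.ofAdd a, by rw [← ofAdd_toAdd m, ← ha]; rfl⟩

/-- The character of a point of `D_k(ℤ/p)`. -/
noncomputable def ch {p : ℕ} {T : Over (Spec (CommRingCat.of k))} (t : T ⟶ Red.diag k (ZMod p)) :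
    Multiplicative (ZMod p) →* Fn T :=
  fnChar ((show T ⟶ SpecOver k (MonoidAlgebra k (Multiplicative (ZMod p))) from t) ≫ dsFrom k (ZMod p))

theorem ch_injective {p : ℕ} {T : Over (Spec (CommRingCat.of k))} {s t : T ⟶ Red.diag k (ZMod p)} (h : ch s = ch t) :
    s = t := by
  have h1 : (show T ⟶ SpecOver k (MonoidAlgebra k (Multiplicative (ZMod p))) from s) ≫ dsFrom k (ZMod p) =
      (show T ⟶ SpecOver k (MonoidAlgebra k (Multiplicative (ZMod p))) from t) ≫ dsFrom k (ZMod p) := by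
    apply (dsEquiv _ (ZMod p)).symm.injective
    exact h
  exact (cancel_mono _).1 h1

theorem ch_mul {p : ℕ} {T : Over (Spec (CommRingCat.of k))} (s t : T ⟶ Red.diag k (ZMod p)) :
    ch (s * t) = ch s * ch t := by
  rw [ch, ch, ch, ← fnChar_mul, ← MonObj.mul_comp]

theorem ch_comp {p : ℕ} {T T' : Over (Spec (CommRingCat.of k))} (h : T' ⟶ T) (t : T ⟶ Red.diag k (ZMod p)) :
    ch (h ≫ t) = ((fnMap h : Fn T →ₐ[k] Fn T') : Fn T →* Fn T').comp (ch t) := by
  rw [ch, ch, fnMap_fnChar, Category.assoc]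

theorem exists_ch {p : ℕ} {T : Over (Spec (CommRingCat.of k))} (c : Multiplicative (ZMod p) →* Fn T) :
    ∃ t : T ⟶ Red.diag k (ZMod p), ch t = c := by
  refine ⟨(dsEquiv T (ZMod p) c : T ⟶ Red.DS (Spec (CommRingCat.of k)) (ZMod p)) ≫ dsTo k (ZMod p), ?_⟩
  rw [ch, Category.assoc, dsTo_dsFrom, Category.comp_id]
  exact dsChar_dsEquiv _

/-- The inclusion `D_k(ℤ/p) ⟶ 𝔾_m`. -/
noncomputable def incl (k : Type u) [Field k] (p : ℕ) : Red.diag k (ZMod p) ⟶ Red.Gm (Spec (CommRingCat.of k)) :=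
  dsEquiv _ ℤ ((ch (𝟙 (Red.diag k (ZMod p)))).comp (redHom p))

theorem fnChar_incl {p : ℕ} {T : Over (Spec (CommRingCat.of k))} (t : T ⟶ Red.diag k (ZMod p)) :
    fnChar (t ≫ incl k p) = (ch t).comp (redHom p) := by
  rw [← fnMap_fnChar]
  have h : fnChar (incl k p) = (ch (𝟙 (Red.diag k (ZMod p)))).comp (redHom p) := dsChar_dsEquiv _
  rw [h, ← MonoidHom.comp_assoc, ← ch_comp, Category.comp_id]

theorem fnChar_injective {M : Type} [AddCommGroup M] {T : Over (Spec (CommRingCat.of k))}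
    {s t : T ⟶ Red.DS (Spec (CommRingCat.of k)) M} (h : fnChar s = fnChar t) : s = t := by
  apply (dsEquiv _ M).symm.injective
  exact h

theorem isMonHom_incl (p : ℕ) : IsMonHom (incl k p) := by
  refine Groth.Agent.Sga3B.Pts.isMonHom_of_points (G := Red.diag k (ZMod p)) (H := Red.Gm (Spec (CommRingCat.of k)))
    (incl k p) ?_
  intro T x y
  apply fnChar_injective
  rw [fnChar_mul, fnChar_incl, fnChar_incl, fnChar_incl, ch_mul]
  rfl

theorem mono_incl (p : ℕ) : Mono (incl k p) := by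
  refine ⟨fun {T} x y h => ch_injective ?_⟩
  have h1 := congrArg fnChar h
  rw [fnChar_incl, fnChar_incl] at h1
  refine MonoidHom.ext fun m => ?_
  obtain ⟨a, rfl⟩ := redHom_surjective p m
  exact DFunLike.congr_fun h1 a

theorem ch_pow_eq_one {p : ℕ} {T : Over (Spec (CommRingCat.of k))} (t : T ⟶ Red.diag k (ZMod p)) :
    ((ch t).comp (redHom p)) ^ p = 1 := by
  refine MonoidHom.ext fun m => ?_
  change (ch t (redHom p m)) ^ p = 1
  rw [← map_pow, ← map_pow]
  have h : redHom p (m ^ p) = 1 := by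
    change Multiplicative.ofAdd (((p • Multiplicative.toAdd m : ℤ)) : ZMod p) = 1
    rw [nsmul_eq_mul, Int.cast_mul, Int.cast_natCast, ZMod.natCast_self, zero_mul]
    rfl
  rw [h, map_one]

theorem fnChar_one' {M : Type} [AddCommGroup M] {T : Over (Spec (CommRingCat.of k))} :
    fnChar (1 : T ⟶ Red.DS (Spec (CommRingCat.of k)) M) = 1 := by
  have h := fnChar_mul (1 : T ⟶ Red.DS (Spec (CommRingCat.of k)) M) 1
  have h0 := _root_.mul_one (1 : T ⟶ Red.DS (Spec (CommRingCat.of k)) M)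
  rw [h0] at h
  refine MonoidHom.ext fun m => ?_
  have h1 : fnChar (1 : T ⟶ Red.DS (Spec (CommRingCat.of k)) M) m =
      fnChar (1 : T ⟶ Red.DS (Spec (CommRingCat.of k)) M) m * fnChar (1 : T ⟶ Red.DS (Spec (CommRingCat.of k)) M) m :=
    DFunLike.congr_fun h m
  have hu : IsUnit (fnChar (1 : T ⟶ Red.DS (Spec (CommRingCat.of k)) M) m) :=
    (Group.isUnit m).map (fnChar (1 : T ⟶ Red.DS (Spec (CommRingCat.of k)) M))
  exact (hu.mul_left_cancel (by rw [← h1, MonoidHom.one_apply, _root_.mul_one]))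

theorem fnChar_pow {T : Over (Spec (CommRingCat.of k))} (t : T ⟶ Red.Gm (Spec (CommRingCat.of k))) (n : ℕ) :
    fnChar (t ^ n) = fnChar t ^ n := by
  induction n with
  | zero => rw [pow_zero, pow_zero, fnChar_one']
  | succ n ih => rw [pow_succ, pow_succ, fnChar_mul, ih]

/-- A character of `ℤ` killed by `p` comes from a character of `ℤ/p`. -/
theorem exists_desc {R : Type u} [CommRing R] (p : ℕ) (c : Multiplicative ℤ →* R) (h : c ^ p = 1) :
    ∃ d : Multiplicative (ZMod p) →* R, d.comp (redHom p) = c := by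
  let c' : ℤ →+ Additive Rˣ := MonoidHom.toAdditiveRight c.toHomUnits
  have h1 : c' (p : ℤ) = 0 := by
    apply Additive.toMul.injective
    apply Units.ext
    change c (Multiplicative.ofAdd (p : ℤ)) = 1
    have h2 := DFunLike.congr_fun h (Multiplicative.ofAdd 1)
    have h3 : Multiplicative.ofAdd (p : ℤ) = (Multiplicative.ofAdd (1 : ℤ)) ^ p := by
      rw [← ofAdd_nsmul, nsmul_one]
    rw [h3, map_pow]
    exact h2
  let d' : ZMod p →+ Additive Rˣ := ZMod.lift p ⟨c', h1⟩
  refine ⟨(Units.coeHom R).comp (AddMonoidHom.toMultiplicativeLeft d'), ?_⟩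
  refine MonoidHom.ext fun m => ?_
  change ((Additive.toMul (d' ((Multiplicative.toAdd m : ℤ) : ZMod p)) : Rˣ) : R) = c m
  rw [ZMod.lift_coe]
  rfl

theorem incl_pow (p : ℕ) : incl k p ≫ (𝟙 (Red.Gm (Spec (CommRingCat.of k)))) ^ p = 1 := by
  rw [MonObj.comp_pow, Category.comp_id]
  apply fnChar_injective
  rw [fnChar_pow, fnChar_one']
  have h : fnChar (incl k p) = (ch (𝟙 (Red.diag k (ZMod p)))).comp (redHom p) := dsChar_dsEquiv _
  rw [h, ch_pow_eq_one]

/-- `D_k(ℤ/p)` is the kernel of the `p`-th power of `𝔾_m`. -/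
theorem isKernel_incl (k : Type u) [Field k] (p : ℕ) :
    AlgGrp.IsKernel (incl k p) ((𝟙 (Red.Gm (Spec (CommRingCat.of k)))) ^ p) := by
  have := mono_incl (k := k) p
  apply K844.FinSub.isKernel_of
  · exact incl_pow p
  · intro T t b h
    have hb : b ≫ η[Red.Gm (Spec (CommRingCat.of k))] = 1 := by
      rw [Hom.one_def]
      congr 1
      exact toUnit_unique _ _
    rw [hb, MonObj.comp_pow, Category.comp_id] at h
    have h1 : fnChar t ^ p = 1 := by rw [← fnChar_pow, h, fnChar_one']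
    obtain ⟨d, hd⟩ := exists_desc p (fnChar t) h1
    obtain ⟨s, hs⟩ := exists_ch d
    refine ⟨s, ?_⟩
    apply fnChar_injective
    rw [fnChar_incl, hs, hd]

/-- The bridge node. -/
theorem exists_kernel (k : Type u) [Field k] (p : ℕ) :
    ∃ n : Red.diag k (ZMod p) ⟶ Red.Gm (Spec (CommRingCat.of k)), IsMonHom n ∧
      AlgGrp.IsKernel n ((𝟙 (Red.Gm (Spec (CommRingCat.of k)))) ^ p) :=
  ⟨incl k p, isMonHom_incl p, isKernel_incl k p⟩

end K270.MuDiag
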