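import Groth.Agent.AlgGrp.K400.AlgCat
import Groth.Agent.AlgGrp.K405.IsogGm
import Groth.Agent.AlgGrp.K398.Pts

/-!
# The push-out of an abelian variety along `μ_p ⟶ 𝔾_m`

`k` a field, `P : G ⟶ G` an epimorphism of commutative algebraic groups with kernel `ι : N ⟶ G`, `m : N ⟶ A` a
monomorphism.  The push-out `C` of `ι` and `m` is an extension of `A / N` by `G` (through `i : G ⟶ C`) and, at the same time, of
`G` by `A` (through `χ : C ⟶ G` with `i ≫ χ = P`).
-/

set_option autoImplicit false
universe v u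
open CategoryTheory Limits

namespace K270.Push

section Abel

variable {𝓐 : Type u} [Category.{v} 𝓐] [Abelian 𝓐] {N G A : 𝓐}

/-- Formal part: the two exact sequences of the push-out. -/
theorem exists_push (ι : N ⟶ G) (P : G ⟶ G) (w : ι ≫ P = 0) (hS : (ShortComplex.mk ι P w).ShortExact)
    (m : N ⟶ A) [Mono m] :
    ∃ (C B : 𝓐) (i : G ⟶ C) (j : A ⟶ C) (χ : C ⟶ G) (π : C ⟶ B) (w₁ : j ≫ χ = 0) (w₂ : i ≫ π = 0),
      (ShortComplex.mk j χ w₁).ShortExact ∧ (ShortComplex.mk i π w₂).ShortExact ∧ i ≫ χ = P ∧ Epi (j ≫ π) ∧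
        Epi (biprod.desc i j) := by
  have := hS.mono_f
  have := hS.epi_g
  let i : G ⟶ pushout ι m := pushout.inl ι m
  let j : A ⟶ pushout ι m := pushout.inr ι m
  have hi : Mono i := inferInstance
  have hj : Mono j := inferInstance
  have hc : ι ≫ i = m ≫ j := pushout.condition
  let χ : pushout ι m ⟶ G := pushout.desc P 0 (by rw [w, comp_zero])
  have h1 : i ≫ χ = P := pushout.inl_desc _ _ _
  have h2 : j ≫ χ = 0 := pushout.inr_desc _ _ _
  have hχ : Epi χ := by
    have : Epi (i ≫ χ) := by rw [h1]; exact hS.epi_g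
    exact epi_of_epi i χ
  refine ⟨pushout ι m, cokernel i, i, j, χ, cokernel.π i, h2, cokernel.condition i, ?_, ?_, h1, ?_, ?_⟩
  · refine ShortComplex.ShortExact.mk' ?_ hj hχ
    apply ShortComplex.exact_of_g_is_cokernel
    refine CokernelCofork.IsColimit.ofπ' χ h2 fun {Z} f hf => ?_
    have h3 : ι ≫ i ≫ f = 0 := by
      rw [← Category.assoc, hc, Category.assoc, hf, comp_zero]
    let g : G ⟶ Z := hS.exact.desc (i ≫ f) h3
    have hg : P ≫ g = i ≫ f := hS.exact.g_desc _ _
    refine ⟨g, ?_⟩
    apply pushout.hom_ext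
    · change i ≫ χ ≫ g = i ≫ f
      rw [← Category.assoc, h1, hg]
    · change j ≫ χ ≫ g = j ≫ f
      rw [← Category.assoc, h2, zero_comp, hf]
  · refine ShortComplex.ShortExact.mk' ?_ hi inferInstance
    exact ShortComplex.exact_cokernel i
  · rw [Preadditive.epi_iff_cancel_zero]
    intro Z f hf
    rw [← cancel_epi (cokernel.π i), comp_zero]
    apply pushout.hom_ext
    · change i ≫ cokernel.π i ≫ f = i ≫ 0
      rw [← Category.assoc, cokernel.condition, zero_comp, comp_zero]
    · change j ≫ cokernel.π i ≫ f = j ≫ 0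
      rw [← Category.assoc, hf, comp_zero]
  · rw [Preadditive.epi_iff_cancel_zero]
    intro Z f hf
    apply pushout.hom_ext
    · have := congrArg (fun t => biprod.inl ≫ t) hf
      simpa using this
    · have := congrArg (fun t => biprod.inr ≫ t) hf
      simpa using this

end Abel

end K270.Push
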